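import Groth.Agent.Lib.FibH1_18.Local
import Groth.Agent.Lib.VanFib13.Top
import Groth.Agent.Lib.VanFib13.Apply
import Groth.Agent.Lib.CohFound.HHBridge
import Groth.Agent.Lib.Twist.Pullback
import Groth.Agent.Lib.RelAmple18.Ops

/-!
# Proper morphisms with fibres of dimension at most one, over an affine chart
-/

set_option autoImplicit false
set_option linter.style.haveILetI false
set_option linter.unusedSectionVars false
set_option maxHeartbeats 1000000
set_option backward.isDefEq.respectTransparency false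
set_option backward.isDefEq.respectTransparency.types false

universe u

open CategoryTheory CategoryTheory.Limits AlgebraicGeometry TopologicalSpace Opposite TensorProduct

noncomputable section

namespace Groth.Agent.FibH1_18

open Groth.Agent.CohFound Groth.Agent.CBC10

attribute [local instance] secA

/-- A finite affine cover with affine intersections. -/
structure Cov (X : Scheme.{u}) where
  ι : Type u
  [fin : Finite ι]
  U : ι → X.Opens
  cov : (⊤ : X.Opens) ≤ iSup U
  aff : ∀ (n : ℕ) (a : Fin (n + 1) → ι), IsAffineOpen (tupOpen (X := sp X) U a)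

attribute [instance] Cov.fin

theorem nonempty_cov {A : Type u} [CommRing A] {X : Scheme.{u}} (f₀ : X ⟶ Spec (CommRingCat.of A))
    [IsProper f₀] : Nonempty (Cov X) := by
  haveI : CompactSpace X := QuasiCompact.compactSpace_of_compactSpace f₀
  haveI : X.IsSeparated := ⟨by rw [← terminal.comp_from f₀]; infer_instance⟩
  obtain ⟨ι, _, U, hcov, hU⟩ := exists_finite_affine_cover X
  exact ⟨{ ι := ι, U := U, cov := hcov, aff := isAffineOpen_tupOpen hU }⟩

section Ring

variable {A : Type u} [CommRing A] {X : Scheme.{u}} (f₀ : X ⟶ Spec (CommRingCat.of A)) [IsProper f₀]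
  (hd : ∀ y, topologicalKrullDim ↥(f₀ ⁻¹' {y} : Set X) ≤ 1)

include hd

theorem hH2 (N : X.Modules) (hN : Coh.IsQCoh N) : Subsingleton (Coh.HH X N 2) :=
  (subsingleton_HH_iff N 2).2 (VanFib13.subsingleton_of_fibreDim (A := CommRingCat.of A) f₀ 1 hd hN (by omega))

theorem finite_H1 (F : X.Modules) (hF : Coh.IsQCoh F) (hF' : CohB1.IsFT F) :
    letI : X.Over (Spec (CommRingCat.of A)) := ⟨f₀⟩
    Module.Finite A (Coh.HH X F 1) := by
  letI : X.Over (Spec (CommRingCat.of A)) := ⟨f₀⟩
  exact (finite_HH_iff F 1).2 (VanFib13.hFin_top (B := CommRingCat.of A) f₀ 1 hd F hF hF')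

end Ring

/-- `H^1(X, F ⊗_A M) = 0`, for the chosen cover. -/
abbrev VanH {A : Type u} [CommRing A] {X : Scheme.{u}} (f₀ : X ⟶ Spec (CommRingCat.of A)) (c : Cov X)
    (F : X.Modules) (M : Type u) [AddCommGroup M] [Module A M] : Prop :=
  letI : X.Over (Spec (CommRingCat.of A)) := ⟨f₀⟩
  VanT A c.U F M

section Ring

variable {A : Type u} [CommRing A] {X : Scheme.{u}} (f₀ : X ⟶ Spec (CommRingCat.of A)) [IsProper f₀]
  (hd : ∀ y, topologicalKrullDim ↥(f₀ ⁻¹' {y} : Set X) ≤ 1) (c : Cov X) {F : X.Modules} (hF : Coh.IsQCoh F)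

include hd hF

theorem vanH_of_algebra (B : Type u) [CommRing B] [Algebra A B] (M : Type u) [AddCommGroup M] [Module A M]
    [Module B M] [IsScalarTower A B M] (h : VanH f₀ c F B) : VanH f₀ c F M := by
  letI : X.Over (Spec (CommRingCat.of A)) := ⟨f₀⟩
  exact vanT_of_algebra c.cov c.aff hF (hH2 f₀ hd) B h

theorem vanH_of_surjective {M M' : Type u} [AddCommGroup M] [Module A M] [AddCommGroup M'] [Module A M']
    (g : M →ₗ[A] M') (hg : Function.Surjective g) (h : VanH f₀ c F M) : VanH f₀ c F M' := by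
  letI : X.Over (Spec (CommRingCat.of A)) := ⟨f₀⟩
  exact vanT_of_surjective c.cov c.aff hF (hH2 f₀ hd) g hg h

/-- Vanishing passes down to the residue field of a prime from any field over it. -/
theorem vanH_residueField (p : Ideal A) [p.IsPrime] (K : Type u) [Field K] [Algebra A K]
    (hp : RingHom.ker (algebraMap A K) = p) (h : VanH f₀ c F K) : VanH f₀ c F p.ResidueField := by
  let j : p.ResidueField →+* K := Ideal.ResidueField.lift p (algebraMap A K) hp.ge (fun a ha => by
    refine isUnit_iff_ne_zero.2 fun h0 => ha ?_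
    rw [← hp]; exact h0)
  letI : Algebra p.ResidueField K := j.toAlgebra
  haveI : IsScalarTower A p.ResidueField K := IsScalarTower.of_algebraMap_eq fun a =>
    (Ideal.ResidueField.lift_algebraMap _ _ _ _ a).symm
  obtain ⟨r, hr⟩ := LinearMap.exists_leftInverse_of_injective (Algebra.linearMap p.ResidueField K)
    (LinearMap.ker_eq_bot.2 (algebraMap p.ResidueField K).injective)
  refine vanH_of_surjective f₀ hd c hF (r.restrictScalars A) (fun x => ⟨algebraMap _ K x, ?_⟩) h
  exact LinearMap.congr_fun hr x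

/-- Vanishing at a prime spreads to a neighbourhood. -/
theorem exists_vanH_away (hF' : CohB1.IsFT F) (p : Ideal A) [p.IsPrime] (h : VanH f₀ c F p.ResidueField) :
    ∃ t ∉ p, VanH f₀ c F (Localization.Away t) := by
  letI : X.Over (Spec (CommRingCat.of A)) := ⟨f₀⟩
  exact exists_vanT_away c.cov c.aff hF (hH2 f₀ hd) (finite_H1 f₀ hd F hF hF') p h

/-- Vanishing at every prime. -/
theorem vanH_self (hF' : CohB1.IsFT F) (h : ∀ (p : Ideal A) [p.IsPrime], VanH f₀ c F p.ResidueField) :
    VanH f₀ c F A := by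
  letI : X.Over (Spec (CommRingCat.of A)) := ⟨f₀⟩
  intro x hx
  let I : Submodule A A :=
    (LinearMap.range (dT A c.U F A 0)).comap (LinearMap.toSpanSingleton A (CT A c.U F A 1) x)
  have hI : I = ⊤ := by
    by_contra hne
    obtain ⟨m, hm, hle⟩ := Ideal.exists_le_maximal I hne
    haveI := hm.isPrime
    obtain ⟨t, ht, hv⟩ := exists_vanH_away f₀ hd c hF hF' m (h m)
    let q := Algebra.linearMap A (Localization.Away t)
    obtain ⟨w, hw⟩ := hv (q.lTensor _ x) (by rw [← lTensor_dT, hx, map_zero])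
    have hnum : ∀ w : CT A c.U F (Localization.Away t) 0, ∃ (k : ℕ) (w₀ : CT A c.U F A 0),
        q.lTensor _ w₀ = (t ^ k) • w := by
      intro w
      induction w using TensorProduct.induction_on with
      | zero => exact ⟨0, 0, by simp⟩
      | tmul y b =>
        obtain ⟨k, a, ha⟩ := IsLocalization.Away.surj t b
        refine ⟨k, y ⊗ₜ a, ?_⟩
        rw [LinearMap.lTensor_tmul, Algebra.linearMap_apply, ← ha, ← TensorProduct.tmul_smul, Algebra.smul_def,
          map_pow, mul_comm]
      | add a b ha hb =>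
        obtain ⟨k, y, hy⟩ := ha
        obtain ⟨l, z, hz⟩ := hb
        exact ⟨k + l, t ^ l • y + t ^ k • z, by
          rw [map_add, map_smul, map_smul, hy, hz, smul_smul, smul_smul, smul_add, pow_add, mul_comm (t ^ l)]⟩
    obtain ⟨k, w₀, hw₀⟩ := hnum w
    have h0 : q.lTensor _ (t ^ k • x - dT A c.U F A 0 w₀) = 0 := by
      rw [map_sub, map_smul, lTensor_dT, hw₀, map_smul, hw, sub_self]
    let e := TensorProduct.rid A (C c.U F 1)
    obtain ⟨⟨_, l, rfl⟩, hl⟩ := (IsLocalizedModule.eq_zero_iff (Submonoid.powers t)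
      (TensorProduct.mk A (Localization.Away t) (C c.U F 1) 1) (m := e (t ^ k • x - dT A c.U F A 0 w₀))).1 (by
        have key : ∀ y : CT A c.U F A 1,
            TensorProduct.comm A _ _ (q.lTensor _ y) = (1 : Localization.Away t) ⊗ₜ[A] e y := fun y => by
          induction y using TensorProduct.induction_on with
          | zero => simp
          | add a b ha hb => simp only [map_add, ha, hb, TensorProduct.tmul_add]
          | tmul v a =>
            simp [q, e, Algebra.algebraMap_eq_smul_one, TensorProduct.smul_tmul', TensorProduct.tmul_smul]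
        rw [TensorProduct.mk_apply, ← key, h0, map_zero])
    refine ht (hm.isPrime.mem_of_pow_mem (l + k) (hle ?_))
    refine ⟨t ^ l • w₀, ?_⟩
    rw [map_smul, LinearMap.toSpanSingleton_apply, pow_add, mul_smul]
    have hl' : t ^ l • (t ^ k • x - dT A c.U F A 0 w₀) = 0 := e.injective (by rw [map_smul, map_zero]; exact hl)
    rw [smul_sub, sub_eq_zero] at hl'
    exact hl'.symm
  have h1 : (1 : A) ∈ I := hI ▸ Submodule.mem_top
  obtain ⟨w, hw⟩ := h1
  exact ⟨w, by rw [hw, LinearMap.toSpanSingleton_apply, one_smul]⟩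

omit hd in
/-- `VanH` for an algebra is vanishing of the cohomology of the base change. -/
theorem vanH_algebra_iff {B : Type u} [CommRing B] [Algebra A B] {X' : Scheme.{u}} {g : X' ⟶ X}
    {z : X' ⟶ Spec (CommRingCat.of B)}
    (hc : IsPullback g z f₀ (Spec.map (CommRingCat.ofHom (algebraMap A B))))
    {N : X'.Modules} (φ : (Scheme.Modules.pullback g).obj F ≅ N) :
    VanH f₀ c F B ↔ Subsingleton (Coh.HH X' N 1) := by
  letI : X.Over (Spec (CommRingCat.of A)) := ⟨f₀⟩
  letI : X'.Over (Spec (CommRingCat.of B)) := ⟨z⟩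
  letI : X'.Over (Spec (CommRingCat.of A)) := ⟨z ≫ Spec.map (CommRingCat.ofHom (algebraMap A B))⟩
  haveI : IsAffineHom g := MorphismProperty.of_isPullback hc.flip inferInstance
  have h : Sq (A := A) (B := B) g := by constructor <;> first | exact hc | rfl
  exact vanT_algebra_iff c.cov c.aff hF h φ
    (M1.isQCoh_of_isIso φ (M1.isQCoh_pullback g hF))

end Ring

section Chart

variable {X Y : Scheme.{u}} (f : X ⟶ Y)

/-- The chart over an affine open. -/
theorem dim_chart [IsProper f] {V : Y.Opens} (hV : IsAffineOpen V)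
    (hd : ∀ w ∈ V, topologicalKrullDim ↥(f ⁻¹' {w} : Set X) ≤ 1) :
    ∀ z, topologicalKrullDim ↥((pullback.snd f hV.fromSpec) ⁻¹' {z} : Set ↥(pullback f hV.fromSpec)) ≤ 1 := by
  intro z
  have hw : hV.fromSpec z ∈ V := hV.range_fromSpec.le ⟨z, rfl⟩
  refine le_trans ?_ (hd _ hw)
  have key : ∀ x : ↥((pullback.snd f hV.fromSpec) ⁻¹' {z} : Set ↥(pullback f hV.fromSpec)),
      pullback.fst f hV.fromSpec x.1 ∈ (f ⁻¹' {hV.fromSpec z} : Set X) := fun x => by
    have hx : pullback.snd f hV.fromSpec x.1 = z := x.2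
    change f (pullback.fst f hV.fromSpec x.1) = _
    rw [← Scheme.Hom.comp_apply, pullback.condition, Scheme.Hom.comp_apply, hx]
  refine Topology.IsInducing.topologicalKrullDim_le
    (f := fun x => (⟨_, key x⟩ : ↥(f ⁻¹' {hV.fromSpec z} : Set X))) ?_
  exact Topology.IsInducing.of_comp
    (((pullback.fst f hV.fromSpec).continuous.comp continuous_subtype_val).subtype_mk _) continuous_subtype_val
    ((pullback.fst f hV.fromSpec).isOpenEmbedding.isInducing.comp Topology.IsInducing.subtypeVal)

/-- The base change of `f` to an affine open of the new base, over an affine chart. -/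
theorem exists_square {X' Y' : Scheme.{u}} {g' : X' ⟶ X} {f' : X' ⟶ Y'} {g : Y' ⟶ Y}
    (hc : IsPullback g' f' f g) {V : Y.Opens} (hV : IsAffineOpen V) {U : Y'.Opens} (hU : IsAffineOpen U)
    (e : U ≤ g ⁻¹ᵁ V) :
    ∃ k : (f' ⁻¹ᵁ U).toScheme ⟶ pullback f hV.fromSpec,
      IsPullback k (f' ∣_ U ≫ hU.isoSpec.hom) (pullback.snd f hV.fromSpec) (Spec.map (g.appLE V U e)) := by
  have H : IsPullback (f' ⁻¹ᵁ U).ι (f' ∣_ U ≫ hU.isoSpec.hom) f' hU.fromSpec :=
    ((isPullback_morphismRestrict f' U).flip.of_iso (Iso.refl _) (Iso.refl _) hU.isoSpec (Iso.refl _)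
      (by simp) (by simp) (by simp) (by simp [← IsAffineOpen.isoSpec_inv_ι]))
  have H' := H.paste_horiz hc
  have hw : hU.fromSpec ≫ g = Spec.map (g.appLE V U e) ≫ hV.fromSpec :=
    (IsAffineOpen.SpecMap_appLE_fromSpec g hV hU e).symm
  rw [hw] at H'
  let k := pullback.lift ((f' ⁻¹ᵁ U).ι ≫ g') ((f' ∣_ U ≫ hU.isoSpec.hom) ≫ Spec.map (g.appLE V U e))
    (H'.w.trans (Category.assoc _ _ _).symm)
  refine ⟨k, IsPullback.of_right (h₁₂ := pullback.fst f hV.fromSpec) (v₁₃ := f) ?_ (pullback.lift_snd _ _ _)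
    (IsPullback.of_hasPullback f hV.fromSpec)⟩
  rw [pullback.lift_fst]
  exact H'

/-- Vanishing over an affine open of a base change. -/
theorem vanH_iff_HHon [IsProper f] {X' Y' : Scheme.{u}} {g' : X' ⟶ X} {f' : X' ⟶ Y'} {g : Y' ⟶ Y}
    (hc : IsPullback g' f' f g) {V : Y.Opens} (hV : IsAffineOpen V) (c : Cov (pullback f hV.fromSpec))
    {U : Y'.Opens} (hU : IsAffineOpen U) (e : U ≤ g ⁻¹ᵁ V) :
    letI : Algebra Γ(Y, V) Γ(Y', U) := (g.appLE V U e).hom.toAlgebra
    VanH (A := Γ(Y, V)) (pullback.snd f hV.fromSpec) c (Coh.structureModule _) Γ(Y', U) ↔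
      Subsingleton (Coh.HHon X' (Coh.structureModule X') (f' ⁻¹ᵁ U) 1) := by
  letI : Algebra Γ(Y, V) Γ(Y', U) := (g.appLE V U e).hom.toAlgebra
  obtain ⟨k, hk⟩ := exists_square f hc hV hU e
  let e₁ : (Coh.structureModule X').restrict (f' ⁻¹ᵁ U).ι ≅ Coh.structureModule ((f' ⁻¹ᵁ U : X'.Opens) : Scheme.{u}) :=
    Scheme.Modules.restrictUnitIso _
  exact vanH_algebra_iff (A := Γ(Y, V)) _ c (M1.isQCoh_structureModule _) (B := Γ(Y', U)) hk
    (Twist.pullbackUnitIso k ≪≫ e₁.symm)

/-- The fibre. -/
theorem vanH_iff_fiber [IsProper f] {V : Y.Opens} (hV : IsAffineOpen V) (c : Cov (pullback f hV.fromSpec))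
    {y : Y} (hy : y ∈ V) :
    ∃ φ : Γ(Y, V) ⟶ Y.residueField y, RingHom.ker φ.hom = (hV.primeIdealOf ⟨y, hy⟩).asIdeal ∧
      (letI : Algebra Γ(Y, V) (Y.residueField y) := φ.hom.toAlgebra
       VanH (A := Γ(Y, V)) (pullback.snd f hV.fromSpec) c (Coh.structureModule _) (Y.residueField y) ↔
        Subsingleton (Coh.HH (f.fiber y) (Coh.structureModule (f.fiber y)) 1)) := by
  have hr : Set.range (Y.fromSpecResidueField y).base ⊆ Set.range hV.fromSpec.base := by
    rw [hV.range_fromSpec, Scheme.range_fromSpecResidueField]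
    simpa using hy
  let s := IsOpenImmersion.lift hV.fromSpec (Y.fromSpecResidueField y) hr
  have hs : Spec.map (Spec.preimage s) ≫ hV.fromSpec = Y.fromSpecResidueField y := by
    rw [Spec.map_preimage]; exact IsOpenImmersion.lift_fac _ _ _
  refine ⟨Spec.preimage s, ?_, ?_⟩
  · let z : Spec (Y.residueField y) := IsLocalRing.closedPoint (Y.residueField y)
    have hz : Spec.map (Spec.preimage s) z = hV.primeIdealOf ⟨y, hy⟩ := by
      refine hV.fromSpec.isOpenEmbedding.injective ?_
      rw [hV.fromSpec_primeIdealOf, ← Scheme.Hom.comp_apply, hs]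
      exact Scheme.fromSpecResidueField_apply y z
    rw [← hz, RingHom.ker_eq_comap_bot]
    change _ = Ideal.comap _ z.asIdeal
    congr 1
    exact (IsLocalRing.maximalIdeal_eq_bot).symm
  · letI : Algebra Γ(Y, V) (Y.residueField y) := (Spec.preimage s).hom.toAlgebra
    have hw : f.fiberι y ≫ f =
        (f.fiberToSpecResidueField y ≫ Spec.map (Spec.preimage s)) ≫ hV.fromSpec := by
      rw [Category.assoc, hs]; exact pullback.condition
    let k : f.fiber y ⟶ pullback f hV.fromSpec := pullback.lift (f.fiberι y) _ hw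
    have hk : IsPullback k (f.fiberToSpecResidueField y) (pullback.snd f hV.fromSpec)
        (Spec.map (Spec.preimage s)) := by
      refine IsPullback.of_right (h₁₂ := pullback.fst f hV.fromSpec) (v₁₃ := f) ?_ (pullback.lift_snd _ _ _)
        (IsPullback.of_hasPullback f hV.fromSpec)
      rw [pullback.lift_fst, hs]
      exact IsPullback.of_hasPullback f (Y.fromSpecResidueField y)
    exact vanH_algebra_iff (A := Γ(Y, V)) _ c (M1.isQCoh_structureModule _) (B := Y.residueField y) hk
      (Twist.pullbackUnitIso k)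

end Chart

end Groth.Agent.FibH1_18
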