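import Groth.Agent.Lib.FibH1_18.Core
import Groth.Agent.Lib.CBC10.ChiPush

/-!
# `H^0` of a base change when `H^1` vanishes
-/

set_option autoImplicit false
set_option linter.style.haveILetI false
set_option linter.unusedSectionVars false
set_option maxHeartbeats 1000000

universe u

open CategoryTheory CategoryTheory.Limits AlgebraicGeometry TopologicalSpace Opposite TensorProduct

noncomputable section

namespace Groth.Agent.FibH1_18

open Groth.Agent.CohFound Groth.Agent.CBC10

attribute [local instance] secA

variable {A : Type u} [CommRing A] {X : Scheme.{u}} [X.Over (Spec (CommRingCat.of A))] {ι : Type u}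
  {U : ι → X.Opens}

variable (A U) in
/-- The cochain of a global section. -/
def glob (N : X.Modules) (σ : Γ(N, (⊤ : X.Opens))) : C U N 0 := fun _ => M1.mres N le_top σ

lemma dL_glob (N : X.Modules) (σ : Γ(N, (⊤ : X.Opens))) : dL A U N 0 (glob U N σ) = 0 := by
  funext a
  rw [dL_apply, Fin.sum_univ_two]
  change (-1 : ℤ) ^ (0 : ℕ) • M1.mres N (tupOpen_le (X := sp X) U a 0) (M1.mres N le_top σ) +
    (-1 : ℤ) ^ (1 : ℕ) • M1.mres N (tupOpen_le (X := sp X) U a 1) (M1.mres N le_top σ) = 0
  rw [M1.mres_mres, M1.mres_mres]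
  simp

lemma tupOpen_single (b : Fin 1 → ι) : tupOpen (X := sp X) U b = U (b 0) := by
  simp [tupOpen]

variable (hcov : (⊤ : X.Opens) ≤ iSup U)
include hcov

lemma le_iSup_tup : (⊤ : X.Opens) ≤ ⨆ b : Fin 1 → ι, tupOpen (X := sp X) U b :=
  hcov.trans (iSup_le fun i => le_iSup_of_le (fun _ => i) (tupOpen_single fun _ => i).ge)

lemma glob_injective (N : X.Modules) : Function.Injective (glob U N) := fun σ τ h =>
  M1.modules_eq_of_locally_eq N ⊤ (fun b : Fin 1 → ι => tupOpen (X := sp X) U b) (fun _ => le_top)
    (le_iSup_tup hcov) σ τ fun b => congrFun h b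

lemma exists_glob (N : X.Modules) (z : C U N 0) (hz : dL A U N 0 z = 0) : ∃ σ, glob U N σ = z := by
  obtain ⟨σ, hσ, -⟩ := TopCat.Sheaf.existsUnique_gluing' ⟨_, N.isSheaf⟩
    (fun b : Fin 1 → ι => tupOpen (X := sp X) U b) ⊤ (fun _ => homOfLE le_top) (le_iSup_tup hcov) z
    (fun b c => by
      let a : Fin 2 → ι := fun k => if k = 0 then c 0 else b 0
      have h := congrFun hz a
      rw [dL_apply, Fin.sum_univ_two] at h
      have e0 : a ∘ Fin.succAbove (0 : Fin 2) = b := funext fun k => by
        obtain rfl : k = 0 := Subsingleton.elim _ _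
        simp [a]
      have e1 : a ∘ Fin.succAbove (1 : Fin 2) = c := funext fun k => by
        obtain rfl : k = 0 := Subsingleton.elim _ _
        simp [a]
      have h' : M1.mres N (tupOpen_le (X := sp X) U a 0) (z (a ∘ Fin.succAbove 0)) =
          M1.mres N (tupOpen_le (X := sp X) U a 1) (z (a ∘ Fin.succAbove 1)) := by
        rw [← sub_eq_zero]
        refine Eq.trans ?_ h
        simp [sub_eq_add_neg]
        rfl
      have hle : tupOpen (X := sp X) U b ⊓ tupOpen (X := sp X) U c ≤ tupOpen (X := sp X) U a := by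
        refine le_iInf fun k => ?_
        by_cases hk : k = 0
        · exact inf_le_right.trans ((tupOpen_single c).le.trans (le_of_eq (by simp [a, hk])))
        · exact inf_le_left.trans ((tupOpen_single b).le.trans (le_of_eq (by simp [a, hk])))
      have key : ∀ (b' c' : Fin 1 → ι) (hb : b' = b) (hc : c' = c) (p : tupOpen (X := sp X) U a ≤ tupOpen (X := sp X) U b')
          (q : tupOpen (X := sp X) U a ≤ tupOpen (X := sp X) U c'),
          M1.mres N p (z b') = M1.mres N q (z c') →
          M1.mres N (inf_le_left : tupOpen (X := sp X) U b ⊓ tupOpen (X := sp X) U c ≤ _) (z b) =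
            M1.mres N inf_le_right (z c) := by
        rintro _ _ rfl rfl p q hpq
        simpa [M1.mres_mres] using congrArg (M1.mres N hle) hpq
      exact key _ _ e0 e1 _ _ h')
  exact ⟨σ, funext hσ⟩

omit hcov

variable {F : X.Modules} {M M' : Type u} [AddCommGroup M] [Module A M] [AddCommGroup M'] [Module A M']
  [Finite ι] (hU : ∀ (n : ℕ) (a : Fin (n + 1) → ι), IsAffineOpen (tupOpen (X := sp X) U a))
  (hF : Coh.IsQCoh F) (hH2 : ∀ N : X.Modules, Coh.IsQCoh N → Subsingleton (Coh.HH X N 2))

include hcov hU hF hH2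

/-- Cocycles of degree zero lift along surjections when `H^1` vanishes. -/
lemma exists_cocycle_lift₀ (hA : VanT A U F A) (g : M →ₗ[A] M') (hg : Function.Surjective g)
    (x : CT A U F M' 0) (hx : dT A U F M' 0 x = 0) :
    ∃ y : CT A U F M 0, dT A U F M 0 y = 0 ∧ g.lTensor _ y = x := by
  obtain ⟨y, rfl⟩ := LinearMap.lTensor_surjective (C U F 0) hg x
  let ι' := (LinearMap.ker g).subtype
  have hex : Function.Exact ι' g := LinearMap.exact_subtype_ker_map g
  obtain ⟨v, hv⟩ := (lTensor_exact (C U F 1) hex hg (dT A U F M 0 y)).1 (by rw [lTensor_dT, hx])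
  have hdv : ι'.lTensor _ (dT A U F _ 1 v) = 0 := by rw [lTensor_dT, hv, dT_dT]
  obtain ⟨u, hu, hdu⟩ := exists_liftT hcov hU hF hH2 ι' v hdv
  obtain ⟨w, hw⟩ := vanT_of_algebra hcov hU hF hH2 (M := LinearMap.ker g) A hA (v - u)
    (by rw [map_sub, hdu, sub_self])
  refine ⟨y - ι'.lTensor _ w, ?_, ?_⟩
  · rw [map_sub, ← lTensor_dT, hw, map_sub, hu, sub_zero, hv, sub_self]
  · rw [map_sub, ← LinearMap.lTensor_comp_apply, show g ∘ₗ ι' = 0 from LinearMap.ext fun k => k.2]
    simp

/-- The cocycles of degree zero with coefficients are combinations of cocycles. -/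
lemma exists_finsupp_cocycle (hA : VanT A U F A) (x : CT A U F M 0) (hx : dT A U F M 0 x = 0) :
    ∃ z : M →₀ C U F 0, (∀ m, dL A U F 0 (z m) = 0) ∧ x = z.sum fun m c => c ⊗ₜ m := by
  classical
  let g : (M →₀ A) →ₗ[A] M := Finsupp.linearCombination A (id : M → M)
  obtain ⟨y, hy, hgy⟩ := exists_cocycle_lift₀ hcov hU hF hH2 hA g (Finsupp.linearCombination_id_surjective A M) x hx
  let e := fun n => TensorProduct.finsuppScalarRight A A (C U F n) M
  refine ⟨e 0 y, fun m => ?_, ?_⟩
  · have key : ∀ (w : CT A U F (M →₀ A) 0) (m : M),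
        e 1 (dT A U F (M →₀ A) 0 w) m = dL A U F 0 (e 0 w m) := by
      intro w m
      induction w using TensorProduct.induction_on with
      | zero => simp only [map_zero, Finsupp.zero_apply]
      | add a b ha hb => simp only [map_add, Finsupp.add_apply, ha, hb]
      | tmul x r => simp [e]
    rw [← key, hy, map_zero, Finsupp.zero_apply]
  · have key : ∀ w : CT A U F (M →₀ A) 0, g.lTensor _ w = (e 0 w).sum fun m c => c ⊗ₜ[A] m := by
      intro w
      induction w using TensorProduct.induction_on with
      | zero => simp only [map_zero, Finsupp.sum_zero_index]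
      | add a b ha hb =>
        simp only [map_add, ha, hb]
        rw [Finsupp.sum_add_index' (fun i => TensorProduct.zero_tmul _ i) fun i a b => TensorProduct.add_tmul a b i]
      | tmul x r =>
        induction r using Finsupp.induction_linear with
        | zero => simp only [TensorProduct.tmul_zero, map_zero, Finsupp.sum_zero_index]
        | add a b ha hb =>
          simp only [TensorProduct.tmul_add, map_add, ha, hb]
          rw [Finsupp.sum_add_index' (fun i => TensorProduct.zero_tmul _ i) fun i a b => TensorProduct.add_tmul a b i]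
        | single i a =>
          simp [e, g, TensorProduct.finsuppScalarRight_apply_tmul, TensorProduct.smul_tmul]
    rw [← key, hgy]

end Groth.Agent.FibH1_18
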