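import Groth.Agent.Lib.FibH1_18.Point
import Groth.Agent.Lib.FibH1_18.Degree0

/-!
# Surjectivity of `A → Γ(X, O)` is stable under base change
-/

set_option autoImplicit false
set_option linter.style.haveILetI false
set_option linter.unusedSectionVars false
set_option maxHeartbeats 1000000
set_option backward.isDefEq.respectTransparency false
set_option backward.isDefEq.respectTransparency.types false

universe u

open CategoryTheory CategoryTheory.Limits AlgebraicGeometry TopologicalSpace Opposite TensorProduct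

noncomputable section

namespace Groth.Agent.FibH1_18

open Groth.Agent.CohFound Groth.Agent.CBC10

attribute [local instance] secA

variable {A : Type u} [CommRing A] {X : Scheme.{u}} (f₀ : X ⟶ Spec (CommRingCat.of A)) [IsProper f₀]

/-- The functions from the base. -/
abbrev glz {B : Type u} [CommRing B] {X' : Scheme.{u}} (z : X' ⟶ Spec (CommRingCat.of B)) : B →+* Γ(X', ⊤) :=
  Coh.toGlobal z

/-- The sections of the cohomology of a base change are combinations of pulled back sections. -/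
theorem exists_combination (hd : ∀ y, topologicalKrullDim ↥(f₀ ⁻¹' {y} : Set X) ≤ 1) (c : Cov X) {F : X.Modules}
    (hF : Coh.IsQCoh F) (hA : VanH f₀ c F A) {B : Type u} [CommRing B] [Algebra A B] {X' : Scheme.{u}}
    {g : X' ⟶ X} {z : X' ⟶ Spec (CommRingCat.of B)}
    (hc : IsPullback g z f₀ (Spec.map (CommRingCat.ofHom (algebraMap A B))))
    {N : X'.Modules} (φ : (Scheme.Modules.pullback g).obj F ≅ N) (σ : Γ(N, (⊤ : X'.Opens))) :
    ∃ s : B →₀ Γ(F, (⊤ : X.Opens)), σ = s.sum fun b t => glz z b •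
      φ.hom.app ⊤ (eta g F (le_refl (g ⁻¹ᵁ (⊤ : X.Opens))) t) := by
  classical
  letI : X.Over (Spec (CommRingCat.of A)) := ⟨f₀⟩
  letI : X'.Over (Spec (CommRingCat.of B)) := ⟨z⟩
  letI : X'.Over (Spec (CommRingCat.of A)) := ⟨z ≫ Spec.map (CommRingCat.ofHom (algebraMap A B))⟩
  haveI : IsAffineHom g := MorphismProperty.of_isPullback hc.flip inferInstance
  have h : Sq (A := A) (B := B) g := by constructor <;> first | exact hc | rfl
  let P := (Scheme.Modules.pushforward g).obj N
  have hb := chiPL_bijective c.U h φ hF c.aff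
  obtain ⟨x, hx⟩ := (hb 0).2 (glob c.U P σ)
  have hxd : dT A c.U F B 0 x = 0 := (hb 1).1 (by
    rw [map_zero]
    exact (chiPL_dL c.U h φ 0 x).trans (by rw [hx]; exact dL_glob P σ))
  obtain ⟨w, hw, hxw⟩ := exists_finsupp_cocycle c.cov c.aff hF (hH2 f₀ hd) hA x hxd
  choose s hs using fun b => exists_glob c.cov F (w b) (hw b)
  let s' : B →₀ Γ(F, (⊤ : X.Opens)) :=
    Finsupp.onFinset w.support (fun b => if w b = 0 then 0 else s b) fun b hb =>
      Finsupp.mem_support_iff.2 fun h0 => hb (if_pos h0)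
  have hs' : ∀ b, glob c.U F (s' b) = w b := fun b => by
    rw [Finsupp.onFinset_apply]
    split_ifs with h0
    · rw [h0]; exact funext fun a => map_zero _
    · exact hs b
  refine ⟨s', ?_⟩
  refine M1.modules_eq_of_locally_eq N ⊤ (fun a : Fin 1 → c.ι => g ⁻¹ᵁ tupOpen (X := sp X) c.U a)
    (fun _ => le_top) (fun p _ => ?_) _ _ fun a => ?_
  · obtain ⟨a, ha⟩ := Opens.mem_iSup.1 (le_iSup_tup c.cov (show g p ∈ (⊤ : X.Opens) from trivial))
    exact Opens.mem_iSup.2 ⟨a, ha⟩
  have h1 : glob c.U P σ a = M1.mres N le_top σ := rfl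
  rw [← h1, ← hx, hxw, Finsupp.sum, map_sum, Finset.sum_apply,
    Finsupp.sum_of_support_subset s' (s := w.support) Finsupp.support_onFinset_subset _ (fun b _ => by
      rw [map_zero, map_zero, smul_zero]), map_sum]
  refine Finset.sum_congr rfl fun b _ => ?_
  rw [chiPL_tmul, ← hs' b]
  refine (congrArg (φ.hom.app _) (chi_tmul h F _ _ _)).trans ?_
  refine (Scheme.Modules.Hom.app_smul φ.hom _ _).trans ?_
  refine Eq.trans ?_ (M1.mres_smul N le_top _ _).symm
  refine congrArg₂ (fun (r : Γ(X', g ⁻¹ᵁ tupOpen (X := sp X) c.U a)) m => r • m) rfl ?_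
  exact (congrArg (φ.hom.app _) (eta_res F (le_refl (g ⁻¹ᵁ (⊤ : X.Opens)))
    (le_refl (g ⁻¹ᵁ tupOpen (X := sp X) c.U a)) le_top le_top (s' b))).trans (M1.app_mres φ.hom le_top _)

/-- If `A → Γ(X, O)` is surjective then so is `B → Γ(X_B, O)`. -/
theorem toGlobal_surjective (hd : ∀ y, topologicalKrullDim ↥(f₀ ⁻¹' {y} : Set X) ≤ 1) (c : Cov X)
    (hA : VanH f₀ c (Coh.structureModule X) A) (hs : Function.Surjective (Coh.toGlobal f₀))
    {B : Type u} [CommRing B] [Algebra A B] {X' : Scheme.{u}}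
    {g : X' ⟶ X} {z : X' ⟶ Spec (CommRingCat.of B)}
    (hc : IsPullback g z f₀ (Spec.map (CommRingCat.ofHom (algebraMap A B)))) :
    Function.Surjective (glz z) := by
  classical
  letI : X.Over (Spec (CommRingCat.of A)) := ⟨f₀⟩
  letI : X'.Over (Spec (CommRingCat.of B)) := ⟨z⟩
  letI : X'.Over (Spec (CommRingCat.of A)) := ⟨z ≫ Spec.map (CommRingCat.ofHom (algebraMap A B))⟩
  have h : Sq (A := A) (B := B) g := by constructor <;> first | exact hc | rfl
  let φ := Twist.pullbackUnitIso g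
  let O := Coh.structureModule X
  let one : Γ(O, (⊤ : X.Opens)) := (show Γ(X, ⊤) from 1)
  let u : Γ(X', ⊤) := φ.hom.app ⊤ (eta g O (le_refl (g ⁻¹ᵁ (⊤ : X.Opens))) one)
  have key : ∀ σ : Γ(X', ⊤), ∃ β, σ = glz z β * u := by
    intro σ
    obtain ⟨t, ht⟩ := exists_combination f₀ hd c (M1.isQCoh_structureModule X) hA hc φ σ
    choose a ha using fun b => hs (show Γ(X, ⊤) from t b)
    refine ⟨∑ b ∈ t.support, algebraMap A B (a b) * b, ?_⟩
    rw [ht, map_sum, Finset.sum_mul, Finsupp.sum]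
    refine Finset.sum_congr rfl fun b _ => ?_
    have e : t b = ρ A (⊤ : X.Opens) (a b) • one := by
      change (show Γ(X, ⊤) from t b) = ρ A (⊤ : X.Opens) (a b) * 1
      rw [← ha b, mul_one]
      exact (ConcreteCategory.congr_hom (X.presheaf.map_id (op ⊤)) _).symm
    rw [e, eta_smul, Scheme.Modules.Hom.app_smul, ρ_comap h, smul_smul, ρ_algebraMap h, map_mul]
    change _ * u = _ * u
    have eid : ∀ r : B, ρ B (g ⁻¹ᵁ (⊤ : X.Opens)) r = glz z r := fun r =>
      ConcreteCategory.congr_hom (X'.presheaf.map_id (op ⊤)) _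
    rw [eid, mul_comm (glz z b)]
  obtain ⟨β₁, h₁⟩ := key 1
  obtain ⟨β₂, h₂⟩ := key (u * u)
  have hu : u = glz z β₂ := by
    calc u = (u * u) * glz z β₁ := by rw [mul_assoc, mul_comm u (glz z β₁), ← h₁, mul_one]
      _ = _ := by rw [h₂, mul_assoc, mul_comm u (glz z β₁), ← h₁, mul_one]
  intro σ
  obtain ⟨β, hβ⟩ := key σ
  exact ⟨β * β₂, by rw [map_mul, hβ, ← hu]⟩

end Groth.Agent.FibH1_18
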