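import Groth.Agent.Lib.FibH1_18.Sections

/-!
# Global sections of a chart
-/

set_option autoImplicit false
set_option linter.style.haveILetI false
set_option maxHeartbeats 1000000
set_option backward.isDefEq.respectTransparency false
set_option backward.isDefEq.respectTransparency.types false

universe u

open CategoryTheory CategoryTheory.Limits AlgebraicGeometry TopologicalSpace Opposite

noncomputable section

namespace Groth.Agent.FibH1_18

open Groth.Agent.CohFound Groth.Agent.CBC10

variable {X Y : Scheme.{u}} (f : X ⟶ Y)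

/-- `Γ(Y, V) → Γ(X_V, O)` is surjective exactly when `f.app V` is. -/
theorem surjective_chart_iff {V : Y.Opens} (hV : IsAffineOpen V) :
    Function.Surjective (Coh.toGlobal (A := Γ(Y, V)) (pullback.snd f hV.fromSpec)) ↔
      Function.Surjective (f.app V) := by
  set p := pullback.fst f hV.fromSpec with hp
  have hr : p.opensRange = f ⁻¹ᵁ V := by
    ext x
    change x ∈ Set.range p.base ↔ _
    rw [hp, Scheme.Pullback.range_fst, hV.range_fromSpec]
    rfl
  have e : (⊤ : (pullback f hV.fromSpec).Opens) = p ⁻¹ᵁ (f ⁻¹ᵁ V) := by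
    rw [← hr, p.preimage_opensRange]
  haveI := p.isIso_app (f ⁻¹ᵁ V) hr.ge
  let θ := p.app (f ⁻¹ᵁ V) ≫ (pullback f hV.fromSpec).presheaf.map (homOfLE e.le).op
  haveI : IsIso ((pullback f hV.fromSpec).presheaf.map (homOfLE e.le).op) := by
    haveI : IsIso (homOfLE e.le).op :=
      ⟨⟨(homOfLE e.ge).op, Subsingleton.elim _ _, Subsingleton.elim _ _⟩⟩
    infer_instance
  have key : ∀ a : Γ(Y, V), Coh.toGlobal (A := Γ(Y, V)) (pullback.snd f hV.fromSpec) a = θ (f.app V a) := by
    intro a
    have h1 : f.app V ≫ θ = (p ≫ f).appLE V ⊤ (by rw [Scheme.Hom.comp_preimage]; exact e.le) := by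
      simp [θ, Scheme.Hom.appLE, Scheme.Hom.comp_app]
    have h3 : (pullback.snd f hV.fromSpec ≫ hV.fromSpec).appLE V ⊤ (by
        rw [Scheme.Hom.comp_preimage, hV.fromSpec_preimage_self]; exact le_top) =
        (Scheme.ΓSpecIso Γ(Y, V)).inv ≫ (pullback.snd f hV.fromSpec).appTop := by
      rw [← Scheme.Hom.appLE_comp_appLE (pullback.snd f hV.fromSpec) hV.fromSpec V ⊤ ⊤
        hV.fromSpec_preimage_self.ge le_rfl]
      have h4 : hV.fromSpec.appLE V ⊤ hV.fromSpec_preimage_self.ge = (Scheme.ΓSpecIso Γ(Y, V)).inv := by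
        rw [Scheme.Hom.appLE, hV.fromSpec_app_self, Category.assoc, ← Functor.map_comp]
        rw [show (eqToHom hV.fromSpec_preimage_self).op ≫ (homOfLE hV.fromSpec_preimage_self.ge).op = 𝟙 _ from
          Subsingleton.elim _ _]
        simp
      rw [h4]
      congr 1
      exact (Scheme.Hom.app_eq_appLE _).symm
    have h5 : f.app V ≫ θ = (Scheme.ΓSpecIso Γ(Y, V)).inv ≫ (pullback.snd f hV.fromSpec).appTop := by
      rw [h1, ← h3]
      congr 1
      exact pullback.condition
    exact (ConcreteCategory.congr_hom h5 a).symm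
  have hθ : Function.Bijective θ := ConcreteCategory.bijective_of_isIso θ
  constructor
  · intro hs x
    obtain ⟨a, ha⟩ := hs (θ x)
    exact ⟨a, hθ.1 ((key a).symm.trans ha)⟩
  · intro hs x
    obtain ⟨y, rfl⟩ := hθ.2 x
    obtain ⟨a, rfl⟩ := hs y
    exact ⟨a, key a⟩

end Groth.Agent.FibH1_18
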