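import Groth.Agent.Lib.CBC10.Complex
import Groth.Agent.Lib.CBC10.SectGood
import Mathlib.LinearAlgebra.DirectSum.Finsupp

/-!
# First cohomology is right exact when the second one vanishes

For a quasi-coherent `F` and a finite cover with affine intersections, statements about `M ↦ H^1 (X, F ⊗_A M)` are
proved on the terms `K^n(F) ⊗_A M` of the Čech complex, assuming `H^2` of every quasi-coherent module vanishes.
-/

set_option autoImplicit false
set_option linter.style.haveILetI false
set_option linter.unusedSectionVars false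
set_option maxHeartbeats 1000000

universe u

open CategoryTheory CategoryTheory.Limits AlgebraicGeometry TopologicalSpace Opposite TensorProduct

noncomputable section

namespace Groth.Agent.FibH1_18

open Groth.Agent.CohFound Groth.Agent.CBC10

attribute [local instance] secA

variable {A : Type u} [CommRing A] {X : Scheme.{u}} [X.Over (Spec (CommRingCat.of A))] {ι : Type u}

lemma prev_cast (p : ℕ) : (ComplexShape.up ℤ).prev ((p + 1 : ℕ) : ℤ) = (p : ℤ) := by simp

/-- The terms of the Čech complex. -/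
abbrev C (U : ι → X.Opens) (N : X.Modules) (n : ℕ) : Type u :=
  ∀ a : Fin (n + 1) → ι, Γ(N, tupOpen (X := sp X) U a)

variable {U : ι → X.Opens}

variable (A U) in
/-- Cocycles in degree `1` are coboundaries. -/
def Van (N : X.Modules) : Prop := ∀ x : C U N 1, dL A U N 1 x = 0 → ∃ w, dL A U N 0 w = x

variable (A) in
/-- A morphism on the terms. -/
def Cmap {N N' : X.Modules} (φ : N ⟶ N') (n : ℕ) : C U N n →ₗ[A] C U N' n :=
  LinearMap.piMap fun a : Fin (n + 1) → ι => appL A φ (tupOpen (X := sp X) U a)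

lemma Cmap_apply {N N' : X.Modules} (φ : N ⟶ N') (n : ℕ) (x : C U N n) (a : Fin (n + 1) → ι) :
    Cmap A φ n x a = φ.app (tupOpen (X := sp X) U a) (x a) := rfl

lemma Cmap_dL {N N' : X.Modules} (φ : N ⟶ N') (n : ℕ) (x : C U N n) :
    Cmap A φ (n + 1) (dL A U N n x) = dL A U N' n (Cmap A φ n x) := by
  funext a
  rw [dL_apply]
  refine (congrArg (appL A φ _) (dL_apply A U N n x a)).trans ?_
  rw [map_sum]
  refine Finset.sum_congr rfl fun i _ => ?_
  rw [map_zsmul, appL_resL]
  rfl

/-- Sections killed by a morphism come from its kernel. -/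
lemma exists_kernel_app {M N : X.Modules} (φ : M ⟶ N) (W : X.Opens) (m : Γ(M, W))
    (hm : φ.app W m = 0) : ∃ w, (kernel.ι φ).app W w = m := by
  let S := ShortComplex.mk (kernel.ι φ) φ (kernel.condition φ)
  have hS : (S.map (abF X)).Exact := (ShortComplex.exact_of_f_is_kernel S (kernelIsKernel φ)).map (abF X)
  haveI : Mono (S.map (abF X)).f := inferInstanceAs (Mono ((abF X).map (kernel.ι φ)))
  exact exact_app hS m hm

lemma kernel_app_injective {M N : X.Modules} (φ : M ⟶ N) (W : X.Opens) :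
    Function.Injective ((kernel.ι φ).app W) :=
  (AddCommGrpCat.mono_iff_injective _).1 (inferInstanceAs
    (Mono ((sheafToPresheaf _ _ ⋙ (evaluation _ _).obj (op W)).map ((abF X).map (kernel.ι φ)))))

section Cover

variable [Finite ι] (hcov : (⊤ : X.Opens) ≤ iSup U)
  (hU : ∀ (n : ℕ) (a : Fin (n + 1) → ι), IsAffineOpen (tupOpen (X := sp X) U a))

include hcov hU

lemma exists_boundary {N : X.Modules} (hN : Coh.IsQCoh N) (p : ℕ) (h : Subsingleton (Coh.HH X N (p + 1)))
    (x : C U N (p + 1)) (hx : dL A U N (p + 1) x = 0) : ∃ w, dL A U N p w = x := by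
  haveI : Subsingleton ((K A U N).homology ((p + 1 : ℕ) : ℤ)) :=
    (hhEquiv hcov (acyc_of_isQCoh hN hU) (p + 1)).toEquiv.subsingleton
  let z : Zm (K A U N) ((p + 1 : ℕ) : ℤ) ((p + 1 + 1 : ℕ) : ℤ) :=
    ⟨x, (K_d_nat A U N (p + 1) x).trans hx⟩
  obtain ⟨y, hy⟩ := (clsM_eq_zero_iff (K A U N) (prev_cast p) (next_cast (p + 1)) z).1
    (Subsingleton.elim _ _)
  exact ⟨y, (K_d_nat A U N p y).symm.trans hy⟩

lemma van_of_subsingleton {N : X.Modules} (hN : Coh.IsQCoh N) (h : Subsingleton (Coh.HH X N 1)) : Van A U N :=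
  fun x hx => exists_boundary hcov hU hN 0 h x hx

lemma subsingleton_of_van {N : X.Modules} (hN : Coh.IsQCoh N) (h : Van A U N) :
    Subsingleton (Coh.HH X N 1) := by
  haveI : Subsingleton ((K A U N).homology ((0 + 1 : ℕ) : ℤ)) := by
    refine subsingleton_of_forall_eq 0 fun c => ?_
    obtain ⟨z, rfl⟩ := clsM_surjective _ (next_cast (0 + 1)) c
    obtain ⟨w, hw⟩ := h z.1 ((K_d_nat A U N 1 z.1).symm.trans z.2)
    exact (clsM_eq_zero_iff (K A U N) (prev_cast 0) (next_cast (0 + 1)) z).2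
      ⟨w, (K_d_nat A U N 0 w).trans hw⟩
  exact (hhEquiv (A := A) hcov (acyc_of_isQCoh hN hU) (0 + 1)).symm.toEquiv.subsingleton

variable (hH2 : ∀ N : X.Modules, Coh.IsQCoh N → Subsingleton (Coh.HH X N 2))
include hH2

/-- Correction of a cochain by one killed by `φ`. -/
lemma exists_lift {N N' : X.Modules} (hN : Coh.IsQCoh N) (hN' : Coh.IsQCoh N') (φ : N ⟶ N') (y : C U N 1)
    (hy : Cmap A φ 2 (dL A U N 1 y) = 0) :
    ∃ u, Cmap A φ 1 u = 0 ∧ dL A U N 1 u = dL A U N 1 y := by
  have hK : Coh.IsQCoh (kernel φ) := M1.isQCoh_kernel hN hN' φ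
  choose t ht using fun a : Fin 3 → ι => exists_kernel_app φ _ (dL A U N 1 y a) (congrFun hy a)
  have ht' : Cmap A (kernel.ι φ) 2 t = dL A U N 1 y := funext ht
  have hd : dL A U (kernel φ) 2 t = 0 := by
    funext a
    refine kernel_app_injective φ _ ?_
    rw [Pi.zero_apply, map_zero]
    refine (congrFun (Cmap_dL (kernel.ι φ) 2 t) a).trans ?_
    rw [ht', dL_dL]
    rfl
  obtain ⟨s, hs⟩ := exists_boundary hcov hU hK 1 (hH2 _ hK) t hd
  refine ⟨Cmap A (kernel.ι φ) 1 s, funext fun a => ?_, ?_⟩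
  · change φ.app _ ((kernel.ι φ).app _ (s a)) = 0
    exact (M1.comp_app_apply (kernel.ι φ) φ _ (s a)).symm.trans (by rw [kernel.condition]; rfl)
  · rw [← Cmap_dL, hs, ht']

/-- `H^1` of a module onto which another surjects, on the opens of the cover. -/
lemma van_of_surjective {N N' : X.Modules} (hN : Coh.IsQCoh N) (hN' : Coh.IsQCoh N') (φ : N ⟶ N')
    (hφ : ∀ a : Fin 2 → ι, Function.Surjective (φ.app (tupOpen (X := sp X) U a))) (h : Van A U N) :
    Van A U N' := by
  intro x hx
  choose y hy using fun a => hφ a (x a)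
  have hy' : Cmap A φ 1 y = x := funext hy
  obtain ⟨u, hu, hdu⟩ := exists_lift (A := A) hcov hU hH2 hN hN' φ y (by rw [Cmap_dL, hy', hx])
  obtain ⟨w, hw⟩ := h (y - u) (by rw [map_sub, hdu, sub_self])
  exact ⟨Cmap A φ 0 w, by rw [← Cmap_dL, hw, map_sub, hy', hu, sub_zero]⟩

end Cover

/-! ### Coefficients -/

variable {F : X.Modules}

variable (A U F) in
/-- The terms with coefficients. -/
abbrev CT (M : Type u) [AddCommGroup M] [Module A M] (n : ℕ) : Type u := C U F n ⊗[A] M

variable (A U F) in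
/-- The differential with coefficients. -/
abbrev dT (M : Type u) [AddCommGroup M] [Module A M] (n : ℕ) :
    CT A U F M n →ₗ[A] CT A U F M (n + 1) :=
  (dL A U F n).rTensor M

variable (A U F) in
/-- Cocycles with coefficients in `M` are coboundaries. -/
def VanT (M : Type u) [AddCommGroup M] [Module A M] : Prop :=
  ∀ x : CT A U F M 1, dT A U F M 1 x = 0 → ∃ w, dT A U F M 0 w = x

variable {M M' : Type u} [AddCommGroup M] [Module A M] [AddCommGroup M'] [Module A M']

lemma lTensor_dT (g : M →ₗ[A] M') (n : ℕ) (y : CT A U F M n) :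
    g.lTensor _ (dT A U F M n y) = dT A U F M' n (g.lTensor _ y) := by
  simp only [dT, ← LinearMap.comp_apply, LinearMap.lTensor_comp_rTensor, LinearMap.rTensor_comp_lTensor]

lemma dT_dT (n : ℕ) (y : CT A U F M n) : dT A U F M (n + 1) (dT A U F M n y) = 0 := by
  rw [← LinearMap.rTensor_comp_apply, show (dL A U F (n + 1)).comp (dL A U F n) = 0 from
    LinearMap.ext (dL_dL A U F n)]
  simp

lemma vanT_finsupp (I : Type u) (h : VanT A U F M) : VanT A U F (I →₀ M) := by
  classical
  intro x hx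
  let e := fun n => TensorProduct.finsuppRight A A (C U F n) M I
  have hnat : ∀ (n : ℕ) (z : CT A U F (I →₀ M) n) (i : I),
      e (n + 1) (dT A U F (I →₀ M) n z) i = dT A U F M n (e n z i) := fun n z i => by
    simp only [e, TensorProduct.finsuppRight_apply]
    exact lTensor_dT (Finsupp.lapply i) n z
  have h1 : ∀ i, ∃ w, dT A U F M 0 w = e 1 x i := fun i =>
    h _ (by rw [← hnat, hx]; simp [e])
  choose w hw using h1
  let w' : I →₀ CT A U F M 0 := Finsupp.onFinset (e 1 x).support (fun i => if e 1 x i = 0 then 0 else w i)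
    fun i hi => Finsupp.mem_support_iff.2 fun h0 => hi (if_pos h0)
  refine ⟨(e 0).symm w', (e 1).injective (Finsupp.ext fun i => ?_)⟩
  rw [hnat, LinearEquiv.apply_symm_apply, Finsupp.onFinset_apply]
  split_ifs with h0
  · rw [map_zero, h0]
  · exact hw i

lemma vanT_congr (e : M ≃ₗ[A] M') (h : VanT A U F M) : VanT A U F M' := by
  intro x hx
  obtain ⟨w, hw⟩ := h (e.symm.toLinearMap.lTensor _ x) (by rw [← lTensor_dT, hx, map_zero])
  refine ⟨e.toLinearMap.lTensor _ w, ?_⟩
  rw [← lTensor_dT, hw, ← LinearMap.lTensor_comp_apply]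
  simp

variable [Finite ι] (hcov : (⊤ : X.Opens) ≤ iSup U)
  (hU : ∀ (n : ℕ) (a : Fin (n + 1) → ι), IsAffineOpen (tupOpen (X := sp X) U a)) (hF : Coh.IsQCoh F)

include hU hF in
lemma vanT_iff (M : ModuleCat.{u} A) :
    VanT A U F M ↔ Van A U (CohIII.tensorA A F M) := by
  have hb := thetaL_bijective (A := A) hF hU M
  have key : ∀ (n : ℕ) (z : CT A U F M n),
      thetaL A U F M (n + 1) (dT A U F M n z) = dL A U (CohIII.tensorA A F M) n (thetaL A U F M n z) :=
    fun n z => thetaL_dL A U F M n z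
  constructor
  · intro h x hx
    obtain ⟨z, hz⟩ := (hb 1).2 x
    have h0 : dT A U F M 1 z = 0 := (hb 2).1 (by rw [key, hz, hx, map_zero])
    obtain ⟨w, hw⟩ := h z h0
    exact ⟨thetaL A U F M 0 w, by rw [← key, hw, hz]⟩
  · intro h x hx
    have h0 : dL A U (CohIII.tensorA A F M) 1 (thetaL A U F M 1 x) = 0 := by
      rw [← key, hx, map_zero]
    obtain ⟨w, hw⟩ := h (thetaL A U F M 1 x) h0
    obtain ⟨z, hz⟩ := (hb 0).2 w
    exact ⟨z, (hb 1).1 (by rw [key, hz, hw])⟩

variable (hH2 : ∀ N : X.Modules, Coh.IsQCoh N → Subsingleton (Coh.HH X N 2))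

include hcov hU hF hH2

omit hcov hH2 in
lemma isQCoh_tensorA (M : ModuleCat.{u} A) : Coh.IsQCoh (CohIII.tensorA A F M) :=
  M2.isQCoh_tensor hF (M1.isQCoh_pullback _ (inferInstance : Coh.IsQCoh (tilde (R := CommRingCat.of A) M)))

/-- Correction of a cochain with coefficients by one killed by `g`. -/
lemma exists_liftT (g : M →ₗ[A] M') (y : CT A U F M 1) (hy : g.lTensor _ (dT A U F M 1 y) = 0) :
    ∃ u : CT A U F M 1, g.lTensor _ u = 0 ∧ dT A U F M 1 u = dT A U F M 1 y := by
  let P := ModuleCat.of A M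
  let P' := ModuleCat.of A M'
  have hb := thetaL_bijective (A := A) hF hU P
  have hb' := thetaL_bijective (A := A) hF hU P'
  have hnat : ∀ (n : ℕ) (z : CT A U F M n),
      Cmap A (psi A F (ModuleCat.ofHom g : P ⟶ P')) n (thetaL A U F P n z) = thetaL A U F P' n (g.lTensor _ z) :=
    fun n z => funext fun a => (thetaL_natural (ModuleCat.ofHom g : P ⟶ P') n z a).symm
  obtain ⟨v, hv, hdv⟩ := exists_lift (A := A) hcov hU hH2 (isQCoh_tensorA hU hF P) (isQCoh_tensorA hU hF P')
    (psi A F (ModuleCat.ofHom g : P ⟶ P')) (thetaL A U F P 1 y)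
    (by rw [← thetaL_dL, hnat, hy]; exact map_zero _)
  obtain ⟨u, rfl⟩ := (hb 1).2 v
  refine ⟨u, (hb' 1).1 (((hnat 1 u).symm.trans hv).trans (map_zero _).symm), (hb 2).1 ?_⟩
  exact (thetaL_dL A U F P 1 u).trans (hdv.trans (thetaL_dL A U F P 1 y).symm)

/-- Cocycles lift along surjections. -/
lemma exists_cocycle_lift (g : M →ₗ[A] M') (hg : Function.Surjective g) (x : CT A U F M' 1)
    (hx : dT A U F M' 1 x = 0) : ∃ y : CT A U F M 1, dT A U F M 1 y = 0 ∧ g.lTensor _ y = x := by
  obtain ⟨y, rfl⟩ := LinearMap.lTensor_surjective (C U F 1) hg x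
  obtain ⟨u, hu, hdu⟩ := exists_liftT hcov hU hF hH2 g y (by rw [lTensor_dT, hx])
  exact ⟨y - u, by rw [map_sub, hdu, sub_self], by rw [map_sub, hu, sub_zero]⟩

lemma vanT_of_surjective (g : M →ₗ[A] M') (hg : Function.Surjective g) (h : VanT A U F M) :
    VanT A U F M' := fun x hx => by
  obtain ⟨y, hy, rfl⟩ := exists_cocycle_lift hcov hU hF hH2 g hg x hx
  obtain ⟨w, hw⟩ := h y hy
  exact ⟨g.lTensor _ w, by rw [← lTensor_dT, hw]⟩

/-- Vanishing for an algebra gives it for all its modules. -/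
lemma vanT_of_algebra (B : Type u) [CommRing B] [Algebra A B] [Module B M] [IsScalarTower A B M]
    (h : VanT A U F B) : VanT A U F M :=
  vanT_of_surjective hcov hU hF hH2 ((Finsupp.linearCombination B (id : M → M)).restrictScalars A)
    (Finsupp.linearCombination_id_surjective B M) (vanT_finsupp M h)

end Groth.Agent.FibH1_18
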