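import Groth.Agent.Lib.FibH1_18.Core
import Groth.Agent.Lib.CBC10.ChiPush
import Groth.Agent.Lib.CohFound.AffMor
import Mathlib.RingTheory.LocalRing.ResidueField.Ideal
import Mathlib.LinearAlgebra.Matrix.Charpoly.LinearMap
import Mathlib.RingTheory.Localization.BaseChange

/-!
# `H^1` after base change, and its vanishing near a point of vanishing
-/

set_option autoImplicit false
set_option linter.style.haveILetI false
set_option linter.unusedSectionVars false
set_option maxHeartbeats 1000000

universe u

open CategoryTheory CategoryTheory.Limits AlgebraicGeometry TopologicalSpace Opposite TensorProduct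

noncomputable section

namespace Groth.Agent.FibH1_18

open Groth.Agent.CohFound Groth.Agent.CBC10

attribute [local instance] secA

section Algebra

variable {A : Type u} [CommRing A]

lemma exists_num_tensor {p : Ideal A} [p.IsPrime] {C : Type u} [AddCommGroup C] [Module A C]
    (z : C ⊗[A] p.ResidueField) : ∃ s ∉ p, ∃ c : C, s • z = c ⊗ₜ[A] (1 : p.ResidueField) := by
  induction z using TensorProduct.induction_on with
  | zero => exact ⟨1, ‹p.IsPrime›.one_notMem, 0, by simp⟩
  | tmul c k =>
    obtain ⟨s, hs, a, ha⟩ : ∃ s ∉ p, ∃ a : A, s • k = algebraMap A p.ResidueField a := by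
      obtain ⟨a, s, hs, rfl⟩ := IsFractionRing.div_surjective (A := A ⧸ p) k
      obtain ⟨a, rfl⟩ := Ideal.Quotient.mk_surjective a
      obtain ⟨s, rfl⟩ := Ideal.Quotient.mk_surjective s
      have hs' : s ∉ p := fun h => nonZeroDivisors.ne_zero hs (Ideal.Quotient.eq_zero_iff_mem.2 h)
      refine ⟨s, hs', a, ?_⟩
      rw [Algebra.smul_def, IsScalarTower.algebraMap_apply A (A ⧸ p) p.ResidueField,
        IsScalarTower.algebraMap_apply A (A ⧸ p) p.ResidueField a, Ideal.Quotient.algebraMap_eq, mul_div_cancel₀]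
      exact (map_ne_zero_iff _ (IsFractionRing.injective (A ⧸ p) p.ResidueField)).2
        fun h => hs' (Ideal.Quotient.eq_zero_iff_mem.1 h)
    exact ⟨s, hs, a • c, by rw [← TensorProduct.tmul_smul, ha, Algebra.algebraMap_eq_smul_one,
      TensorProduct.tmul_smul, TensorProduct.smul_tmul']⟩
  | add x y hx hy =>
    obtain ⟨s, hs, c, hc⟩ := hx
    obtain ⟨t, ht, d, hd⟩ := hy
    refine ⟨s * t, fun h => (‹p.IsPrime›.mem_or_mem h).elim hs ht, t • c + s • d, ?_⟩
    rw [smul_add, TensorProduct.add_tmul, ← TensorProduct.smul_tmul', ← TensorProduct.smul_tmul', ← hc, ← hd,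
      smul_smul, smul_smul, mul_comm t s]

/-- An element killed in `C ⊗ κ(p)` is, up to a factor outside `p`, in the image of `C ⊗ p`. -/
lemma exists_of_tmul_one_eq_zero {p : Ideal A} [p.IsPrime] {C : Type u} [AddCommGroup C] [Module A C] (v : C)
    (hv : v ⊗ₜ[A] (1 : p.ResidueField) = 0) :
    ∃ t ∉ p, ∃ z : C ⊗[A] p, TensorProduct.rid A C ((Submodule.subtype p).lTensor C z) = t • v := by
  let q : (A ⧸ p) →ₗ[A] p.ResidueField := (IsScalarTower.toAlgHom A (A ⧸ p) p.ResidueField).toLinearMap
  haveI : IsLocalizedModule p.primeCompl q := by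
    constructor
    · rintro ⟨s, hs⟩
      refine (Module.End.isUnit_iff _).2 ⟨fun a b h => ?_, fun k => ?_⟩
      · have h' : algebraMap A p.ResidueField s * a = algebraMap A p.ResidueField s * b := by
          simpa [Algebra.smul_def] using h
        refine mul_left_cancel₀ ?_ h'
        exact fun h0 => hs (by rwa [← RingHom.mem_ker, Ideal.ker_algebraMap_residueField] at h0)
      · refine ⟨(algebraMap A p.ResidueField s)⁻¹ * k, ?_⟩
        have hne : algebraMap A p.ResidueField s ≠ 0 :=
          fun h0 => hs (by rwa [← RingHom.mem_ker, Ideal.ker_algebraMap_residueField] at h0)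
        simp [Algebra.smul_def]
        field_simp
    · intro k
      obtain ⟨a, s, hs, hk⟩ := IsFractionRing.div_surjective (A := A ⧸ p) k
      obtain ⟨s, rfl⟩ := Ideal.Quotient.mk_surjective s
      have hs' : s ∉ p := fun h => nonZeroDivisors.ne_zero hs (Ideal.Quotient.eq_zero_iff_mem.2 h)
      refine ⟨⟨a, ⟨s, hs'⟩⟩, ?_⟩
      subst hk
      change s • (_ / _) = algebraMap (A ⧸ p) p.ResidueField a
      rw [Algebra.smul_def, IsScalarTower.algebraMap_apply A (A ⧸ p) p.ResidueField, Ideal.Quotient.algebraMap_eq,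
        mul_div_cancel₀]
      exact (map_ne_zero_iff _ (IsFractionRing.injective (A ⧸ p) p.ResidueField)).2
        fun h => hs' (Ideal.Quotient.eq_zero_iff_mem.1 h)
    · intro a b h
      exact ⟨1, by rw [IsFractionRing.injective (A ⧸ p) p.ResidueField h]⟩
  have h0 : (AlgebraTensorModule.rTensor A C q) ((1 : A ⧸ p) ⊗ₜ[A] v) = 0 := by
    have : (1 : p.ResidueField) ⊗ₜ[A] v = 0 := by
      rw [← TensorProduct.comm_tmul (R := A), hv, map_zero]
    simpa [q] using this
  obtain ⟨⟨t, ht⟩, htv⟩ := (IsLocalizedModule.eq_zero_iff p.primeCompl (AlgebraTensorModule.rTensor A C q)).1 h0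
  refine ⟨t, ht, ?_⟩
  have h1 : (Submodule.mkQ p).lTensor C ((t • v) ⊗ₜ[A] (1 : A)) = 0 := by
    have h2 := congrArg (TensorProduct.comm A (A ⧸ p) C) htv
    rw [map_zero, Submonoid.mk_smul, map_smul, TensorProduct.comm_tmul, TensorProduct.smul_tmul'] at h2
    simpa using h2
  obtain ⟨z, hz⟩ := (lTensor_exact C (LinearMap.exact_subtype_mkQ p) (Submodule.mkQ_surjective p) _).1 h1
  exact ⟨z, by rw [hz]; simp⟩

end Algebra

variable {A : Type u} [CommRing A] {X : Scheme.{u}} [X.Over (Spec (CommRingCat.of A))] {ι : Type u} [Finite ι]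
  {U : ι → X.Opens} (hcov : (⊤ : X.Opens) ≤ iSup U)
  (hU : ∀ (n : ℕ) (a : Fin (n + 1) → ι), IsAffineOpen (tupOpen (X := sp X) U a))
  {F : X.Modules} (hF : Coh.IsQCoh F)

include hcov hU hF

lemma vanT_self_iff : VanT A U F A ↔ Subsingleton (Coh.HH X F 1) := by
  have key : ∀ (n : ℕ) (z : CT A U F A n),
      TensorProduct.rid A (C U F (n + 1)) (dT A U F A n z) = dL A U F n (TensorProduct.rid A (C U F n) z) := by
    intro n z
    induction z using TensorProduct.induction_on with
    | zero => simp only [map_zero]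
    | add a b ha hb => simp only [map_add, ha, hb]
    | tmul x r => simp
  constructor
  · refine fun h => subsingleton_of_van (A := A) hcov hU hF fun x hx => ?_
    obtain ⟨w, hw⟩ := h ((TensorProduct.rid A _).symm x)
      ((TensorProduct.rid A _).injective (by rw [key, LinearEquiv.apply_symm_apply, hx, map_zero]))
    exact ⟨TensorProduct.rid A _ w, by rw [← key, hw, LinearEquiv.apply_symm_apply]⟩
  · intro h x hx
    obtain ⟨w, hw⟩ := van_of_subsingleton (A := A) hcov hU hF h (TensorProduct.rid A _ x)
      (by rw [← key, hx, map_zero])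
    exact ⟨(TensorProduct.rid A _).symm w,
      (TensorProduct.rid A _).injective (by rw [key, LinearEquiv.apply_symm_apply, hw])⟩

/-- `H^1` of the base change to an algebra. -/
theorem vanT_algebra_iff {B : Type u} [CommRing B] [Algebra A B] {X' : Scheme.{u}}
    [X'.Over (Spec (CommRingCat.of B))] [X'.Over (Spec (CommRingCat.of A))] {g : X' ⟶ X} [IsAffineHom g]
    (h : Sq (A := A) (B := B) g) {N : X'.Modules} (φ : (Scheme.Modules.pullback g).obj F ≅ N)
    (hN : Coh.IsQCoh N) : VanT A U F B ↔ Subsingleton (Coh.HH X' N 1) := by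
  have hb := chiPL_bijective U h φ hF hU
  have key := chiPL_dL U h φ
  have hP : Coh.IsQCoh ((Scheme.Modules.pushforward g).obj N) := M1.isQCoh_push g hN
  haveI : N.IsQuasicoherent := hN
  have hiso : Subsingleton (Coh.HH X ((Scheme.Modules.pushforward g).obj N) 1) ↔ Subsingleton (Coh.HH X' N 1) := by
    rw [subsingleton_HH_iff, subsingleton_HH_iff]
    obtain ⟨e⟩ := nonempty_hc_push_isAffineHom g N 1 (⊤ : X.Opens)
    exact e.toEquiv.subsingleton_congr
  rw [← hiso]
  constructor
  · refine fun hv => subsingleton_of_van (A := A) hcov hU hP fun x hx => ?_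
    obtain ⟨z, hz⟩ := (hb 1).2 x
    obtain ⟨w, hw⟩ := hv z ((hb 2).1 (by rw [key, hz, hx, map_zero]))
    exact ⟨chiPL U h φ 0 w, by rw [← key, hw, hz]⟩
  · intro hs x hx
    obtain ⟨w, hw⟩ := van_of_subsingleton (A := A) hcov hU hP hs (chiPL U h φ 1 x)
      (by rw [← key, hx, map_zero])
    obtain ⟨z, hz⟩ := (hb 0).2 w
    exact ⟨z, (hb 1).1 (by rw [key, hz, hw])⟩

variable (hH2 : ∀ N : X.Modules, Coh.IsQCoh N → Subsingleton (Coh.HH X N 2))
include hH2

/-- Vanishing at a prime spreads to a neighbourhood when `H^1` is finite. -/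
theorem exists_vanT_away (hfin : Module.Finite A (Coh.HH X F 1)) (p : Ideal A) [p.IsPrime]
    (h : VanT A U F p.ResidueField) : ∃ t ∉ p, VanT A U F (Localization.Away t) := by
  let H := (K A U F).homology ((1 : ℕ) : ℤ)
  haveI : Module.Finite A H :=
    Module.Finite.equiv (hhEquiv (A := A) hcov (acyc_of_isQCoh hF hU) 1).symm
  let π := clsM (K A U F) (next_cast 1)
  have hπ : Function.Surjective π := clsM_surjective _ _
  classical
  have step : ∀ c : H, ∃ s ∉ p, s • c ∈ p • (⊤ : Submodule A H) := by
    intro c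
    obtain ⟨⟨x₀, hx'⟩, rfl⟩ := hπ c
    let x : C U F 1 := x₀
    have hx : dL A U F 1 x = 0 := (K_d_nat A U F 1 x).symm.trans hx'
    obtain ⟨w, hw⟩ := h (x ⊗ₜ 1) (by
      rw [dT, LinearMap.rTensor_tmul, hx, TensorProduct.zero_tmul])
    obtain ⟨s, hs, w0, hw0⟩ := exists_num_tensor (A := A) w
    have h1 : (s • x - dL A U F 0 w0) ⊗ₜ[A] (1 : p.ResidueField) = 0 := by
      rw [TensorProduct.sub_tmul, ← TensorProduct.smul_tmul', ← hw, ← map_smul, hw0, dT,
        LinearMap.rTensor_tmul, sub_self]
    obtain ⟨t, ht, z, hz⟩ := exists_of_tmul_one_eq_zero (A := A) _ h1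
    have hdz : (Submodule.subtype p).lTensor _ (dT A U F p 1 z) = 0 := by
      refine (TensorProduct.rid A _).injective ?_
      rw [map_zero, lTensor_dT]
      have : ∀ y : CT A U F A 1, TensorProduct.rid A _ (dT A U F A 1 y) = dL A U F 1 (TensorProduct.rid A _ y) := by
        intro y
        induction y using TensorProduct.induction_on with
        | zero => simp only [map_zero]
        | add a b ha hb => simp only [map_add, ha, hb]
        | tmul x r => simp
      rw [this, hz, map_smul, map_sub, map_smul, hx, dL_dL]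
      simp
    obtain ⟨u, hu, hdu⟩ := exists_liftT hcov hU hF hH2 (Submodule.subtype p) z hdz
    let g : (p →₀ A) →ₗ[A] p := Finsupp.linearCombination A (id : p → p)
    obtain ⟨y, hy, hgy⟩ := exists_cocycle_lift hcov hU hF hH2 g (Finsupp.linearCombination_id_surjective A p)
      (z - u) (by rw [map_sub, hdu, sub_self])
    refine ⟨t * s, fun hm => (‹p.IsPrime›.mem_or_mem hm).elim ht hs, ?_⟩
    let e := fun n => TensorProduct.finsuppScalarRight A A (C U F n) p
    have hcyc : ∀ i, dL A U F 1 (e 1 y i) = 0 := by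
      have key : ∀ (z : CT A U F (p →₀ A) 1) (i : p),
          e 2 (dT A U F (p →₀ A) 1 z) i = dL A U F 1 (e 1 z i) := by
        intro z i
        induction z using TensorProduct.induction_on with
        | zero => simp only [map_zero, Finsupp.zero_apply]
        | add a b ha hb => simp only [map_add, Finsupp.add_apply, ha, hb]
        | tmul x r => simp [e]
      intro i
      rw [← key, hy, map_zero, Finsupp.zero_apply]
    have hcomb : ∀ z : CT A U F (p →₀ A) 1,
        TensorProduct.rid A _ ((Submodule.subtype p).lTensor _ (g.lTensor _ z)) =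
          (e 1 z).sum fun i v => (i : A) • v := by
      intro z
      induction z using TensorProduct.induction_on with
      | zero => simp only [map_zero, Finsupp.sum_zero_index]
      | add a b ha hb =>
        simp only [map_add, ha, hb]
        rw [Finsupp.sum_add_index' (fun i => smul_zero _) fun i a b => smul_add _ _ _]
      | tmul x r =>
        induction r using Finsupp.induction_linear with
        | zero => simp only [TensorProduct.tmul_zero, map_zero, Finsupp.sum_zero_index]
        | add a b ha hb =>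
          simp only [TensorProduct.tmul_add, map_add, ha, hb]
          rw [Finsupp.sum_add_index' (fun i => smul_zero _) fun i a b => smul_add _ _ _]
        | single i a =>
          simp [e, g, TensorProduct.finsuppScalarRight_apply_tmul, smul_smul, mul_comm]
    let zc : p → Zm (K A U F) ((1 : ℕ) : ℤ) ((1 + 1 : ℕ) : ℤ) :=
      fun i => ⟨e 1 y i, (K_d_nat A U F 1 _).trans (hcyc i)⟩
    have hsum : t • (s • x - dL A U F 0 w0) = (e 1 y).sum fun i v => (i : A) • v := by
      rw [← hcomb, hgy, map_sub, hu, sub_zero, hz]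
    have : (t * s) • π ⟨x₀, hx'⟩ = ∑ i ∈ (e 1 y).support, (i : A) • π (zc i) := by
      rw [← map_smul, ← sub_eq_zero, ← Finset.sum_congr rfl fun i _ => (map_smul π ((i : p) : A) (zc i)),
        ← map_sum, ← map_sub]
      refine (clsM_eq_zero_iff (K A U F) (prev_cast 0) (next_cast 1) _).2 ⟨t • w0, ?_⟩
      refine (K_d_nat A U F 0 _).trans ?_
      rw [Submodule.coe_sub, AddSubmonoidClass.coe_finsetSum]
      change _ = (t * s) • x - ∑ i ∈ (e 1 y).support, (i : A) • e 1 y i
      change _ = _ - (e 1 y).sum fun i v => (i : A) • v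
      rw [← hsum, map_smul, smul_sub, smul_smul]
      abel
    rw [this]
    exact Submodule.sum_mem _ fun i _ => Submodule.smul_mem_smul i.2 Submodule.mem_top
  obtain ⟨G, hG⟩ := Module.finite_def.1 (inferInstance : Module.Finite A H)
  choose s hs hsc using step
  let S := ∏ c ∈ G, s c
  have hS : S ∉ p := fun hm => by
    obtain ⟨c, -, hc⟩ := ‹p.IsPrime›.prod_mem_iff.1 hm
    exact hs c hc
  have hrange : LinearMap.range (algebraMap A (Module.End A H) S) ≤ p • ⊤ := by
    rw [LinearMap.range_eq_map, ← hG, Submodule.map_span_le]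
    intro c hc
    rw [hG]
    change S • c ∈ _
    rw [show S = (∏ d ∈ G.erase c, s d) * s c from (Finset.prod_erase_mul G s hc).symm, mul_smul]
    exact Submodule.smul_mem _ _ (hsc c)
  obtain ⟨P, hPm, -, hPc, hP⟩ :=
    LinearMap.exists_monic_and_natDegree_eq_and_coeff_mem_pow_and_aeval_eq_zero A
      (algebraMap A (Module.End A H) S) p hrange
  let t := P.eval S
  have ht : t ∉ p := fun hm => by
    have : (Ideal.Quotient.mk p) t = (Ideal.Quotient.mk p S) ^ P.natDegree := by
      rw [show t = ∑ k ∈ Finset.range (P.natDegree + 1), P.coeff k * S ^ k from Polynomial.eval_eq_sum_range S,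
        map_sum, Finset.sum_range_succ, Finset.sum_eq_zero fun k hk => ?_, zero_add, hPm.coeff_natDegree, one_mul,
        map_pow]
      rw [Ideal.Quotient.eq_zero_iff_mem]
      exact Ideal.mul_mem_right _ _ (Ideal.pow_le_self (by have := Finset.mem_range.1 hk; omega) (hPc k))
    rw [Ideal.Quotient.eq_zero_iff_mem.2 hm, ← map_pow, eq_comm, Ideal.Quotient.eq_zero_iff_mem] at this
    exact hS (‹p.IsPrime›.mem_of_pow_mem _ this)
  have hkill : ∀ c : H, t • c = 0 := fun c => by
    have h1 : Polynomial.aeval (algebraMap A (Module.End A H) S) P = algebraMap A (Module.End A H) t :=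
      Polynomial.aeval_algebraMap_apply_eq_algebraMap_eval S P
    exact LinearMap.congr_fun (h1.symm.trans hP) c
  refine ⟨t, ht, fun z hz => ?_⟩
  have hnum : ∀ z : CT A U F (Localization.Away t) 1, ∃ (m : ℕ) (x : C U F 1), (t ^ m) • z = x ⊗ₜ 1 := by
    intro z
    induction z using TensorProduct.induction_on with
    | zero => exact ⟨0, 0, by simp⟩
    | tmul x b =>
      obtain ⟨m, a, ha⟩ := IsLocalization.Away.surj t b
      refine ⟨m, a • x, ?_⟩
      rw [← TensorProduct.tmul_smul, Algebra.smul_def, map_pow, mul_comm, ha, Algebra.algebraMap_eq_smul_one,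
        TensorProduct.tmul_smul, TensorProduct.smul_tmul']
    | add a b ha hb =>
      obtain ⟨m, c, hc⟩ := ha
      obtain ⟨l, d, hd⟩ := hb
      refine ⟨m + l, t ^ l • c + t ^ m • d, ?_⟩
      rw [TensorProduct.add_tmul, ← TensorProduct.smul_tmul', ← TensorProduct.smul_tmul', ← hc, ← hd,
        smul_smul, smul_smul, smul_add, pow_add, mul_comm (t ^ m)]
  obtain ⟨m, x, hx⟩ := hnum z
  have h1 : dL A U F 1 x ⊗ₜ[A] (1 : Localization.Away t) = 0 := by
    rw [← LinearMap.rTensor_tmul, ← hx, map_smul]
    exact (congrArg _ hz).trans (smul_zero _)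
  obtain ⟨⟨_, l, rfl⟩, hl⟩ := (IsLocalizedModule.eq_zero_iff (Submonoid.powers t)
    (TensorProduct.mk A (Localization.Away t) (C U F 2) 1)).1 (by
      rw [TensorProduct.mk_apply, ← TensorProduct.comm_tmul (R := A), h1, map_zero])
  have hx2 : dL A U F 1 (t ^ l • x) = 0 := by rw [map_smul]; exact hl
  have h3 := hkill (π ⟨t ^ l • x, (K_d_nat A U F 1 _).trans hx2⟩)
  rw [← map_smul] at h3
  obtain ⟨w, hw⟩ := (clsM_eq_zero_iff (K A U F) (prev_cast 0) (next_cast 1) _).1 h3
  have hw' : dL A U F 0 w = t • t ^ l • x := (K_d_nat A U F 0 w).symm.trans hw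
  obtain ⟨v, hv⟩ : ∃ v : Localization.Away t, (t * t ^ l * t ^ m) • v = 1 := by
    have hu : IsUnit (algebraMap A (Localization.Away t) (t * t ^ l * t ^ m)) := by
      simp only [map_mul, map_pow]
      have hu0 := IsLocalization.Away.algebraMap_isUnit t (S := Localization.Away t)
      exact (hu0.mul (hu0.pow l)).mul (hu0.pow m)
    exact ⟨hu.unit⁻¹.1, by rw [Algebra.smul_def]; exact hu.mul_val_inv⟩
  refine ⟨w ⊗ₜ v, ?_⟩
  have hinj : Function.Injective fun c : CT A U F (Localization.Away t) 1 => (t * t ^ l * t ^ m) • c := by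
    intro a b hab
    have e : ∀ c : CT A U F (Localization.Away t) 1, c = (LinearMap.mulLeft A v).lTensor _
        ((t * t ^ l * t ^ m) • c) := fun c => by
      induction c using TensorProduct.induction_on with
      | zero => simp
      | add a b ha hb => rw [smul_add, map_add, ← ha, ← hb]
      | tmul x y =>
        rw [← TensorProduct.tmul_smul, LinearMap.lTensor_tmul, LinearMap.mulLeft_apply, mul_smul_comm,
          ← smul_mul_assoc, hv, one_mul]
    exact (e a).trans ((congrArg _ hab).trans (e b).symm)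
  apply hinj
  simp only [dT, LinearMap.rTensor_tmul, hw']
  rw [← TensorProduct.tmul_smul, hv, mul_smul, hx, ← TensorProduct.smul_tmul', mul_smul]
  rfl

end Groth.Agent.FibH1_18
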