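import Groth.Agent.Lib.FibH1_18.Global

/-!
# Vanishing at a point of the base
-/

set_option autoImplicit false
set_option linter.style.haveILetI false
set_option maxHeartbeats 1000000
set_option backward.isDefEq.respectTransparency false
set_option backward.isDefEq.respectTransparency.types false

universe u

open CategoryTheory CategoryTheory.Limits AlgebraicGeometry TopologicalSpace Opposite

noncomputable section

namespace Groth.Agent.FibH1_18

open Groth.Agent.CohFound Groth.Agent.CBC10

variable {X Y : Scheme.{u}} (f : X ⟶ Y) [IsProper f]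

/-- A section over an open inside a basic open pulls back to a unit. -/
theorem isUnit_appLE {Y' : Scheme.{u}} (g : Y' ⟶ Y) {V : Y.Opens} {U : Y'.Opens} (e : U ≤ g ⁻¹ᵁ V) (t : Γ(Y, V))
    (h : U ≤ g ⁻¹ᵁ Y.basicOpen t) : IsUnit (g.appLE V U e t) := by
  refine Y'.toRingedSpace.isUnit_of_isUnit_germ U _ fun x hx => ?_
  have h' : x ∈ Y'.basicOpen (g.appLE V U e t) := by
    rw [Scheme.basicOpen_appLE]; exact ⟨hx, h hx⟩
  exact (Y'.mem_basicOpen _ x hx).1 h'

/-- A fibre without `H^1` gives vanishing at the residue field of the prime. -/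
theorem vanH_prime_of_fibre {V : Y.Opens} (hV : IsAffineOpen V)
    (hd : ∀ w ∈ V, topologicalKrullDim ↥(f ⁻¹' {w} : Set X) ≤ 1) (c : Cov (pullback f hV.fromSpec))
    {y : Y} (hy : y ∈ V) (hH1 : Subsingleton (Coh.HH (f.fiber y) (Coh.structureModule (f.fiber y)) 1)) :
    VanH (A := Γ(Y, V)) (pullback.snd f hV.fromSpec) c (Coh.structureModule _)
      (hV.primeIdealOf ⟨y, hy⟩).asIdeal.ResidueField := by
  obtain ⟨φ, hker, hiff⟩ := vanH_iff_fiber f hV c hy
  letI : Algebra Γ(Y, V) (Y.residueField y) := φ.hom.toAlgebra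
  exact vanH_residueField _ (dim_chart f hV hd) c (M1.isQCoh_structureModule _) _ (Y.residueField y) hker
    (hiff.2 hH1)

end Groth.Agent.FibH1_18
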