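import Groth.Agent.Lib.FibH1_18.Sections
import Groth.Agent.Lib.PushUnit3.Basic
import Groth.Agent.Lib.TensorMod.Dual

/-!
# Invertible modules trivial on the fibres
-/

set_option autoImplicit false
set_option linter.style.haveILetI false
set_option linter.unusedSectionVars false
set_option maxHeartbeats 1000000
set_option backward.isDefEq.respectTransparency false
set_option backward.isDefEq.respectTransparency.types false

universe u

open CategoryTheory CategoryTheory.Limits AlgebraicGeometry TopologicalSpace Opposite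

noncomputable section

namespace Groth.Agent.FibH1_18

open Groth.Agent.CohFound Groth.Agent.CBC10

attribute [local instance] secA

/-- A section which generates on the members of a cover generates. -/
theorem isGenerator_of_cover {X : Scheme.{u}} {M : X.Modules} {G : X.Opens} (s : Γ(M, G))
    (h : ∀ x ∈ G, ∃ (D : X.Opens) (hD : D ≤ G), x ∈ D ∧ M2.IsGenerator (M1.mres M hD s)) : M2.IsGenerator s := by
  intro V hV
  choose D hD hxD hgen using h
  let W : V → X.Opens := fun v => V ⊓ D v.1 (hV v.2)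
  have hW : ∀ v : V, Function.Bijective fun r : Γ(X, W v) => r • M1.mres M (inf_le_left.trans hV : W v ≤ G) s := by
    intro v
    have := hgen v.1 (hV v.2) (W v) inf_le_right
    simpa [M1.mres_mres] using this
  have hcov : V ≤ ⨆ v : V, W v := fun x hx => Opens.mem_iSup.2 ⟨⟨x, hx⟩, hx, hxD x (hV hx)⟩
  have hres : ∀ (v : V) (r : Γ(X, V)), M1.mres M (inf_le_left : W v ≤ V) (r • M1.mres M hV s) =
      M1.ores (inf_le_left : W v ≤ V) r •
        M1.mres M (inf_le_left.trans hV : W v ≤ G) s := fun v r => by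
    rw [M1.mres_smul, M1.mres_mres]
  refine ⟨fun a b hab => ?_, fun m => ?_⟩
  · refine M1.modules_eq_of_locally_eq (Coh.structureModule X) V W (fun v => inf_le_left) hcov a b fun v => ?_
    exact (hW v).1 ((hres v a).symm.trans ((congrArg (M1.mres M inf_le_left) hab).trans (hres v b)))
  · choose r hr using fun v => (hW v).2 (M1.mres M (inf_le_left : W v ≤ V) m)
    obtain ⟨a, ha, -⟩ := TopCat.Sheaf.existsUnique_gluing' ⟨_, (Coh.structureModule X).isSheaf⟩ W V
      (fun v => homOfLE inf_le_left) hcov r fun v w => by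
        have key : ∀ (u : V) (hle : W v ⊓ W w ≤ W u),
            M1.ores hle (r u) •
              M1.mres M ((inf_le_left.trans inf_le_left).trans hV : W v ⊓ W w ≤ G) s =
            M1.mres M (inf_le_left.trans inf_le_left : W v ⊓ W w ≤ V) m := fun u hle => by
          have h1 := congrArg (M1.mres M hle) (hr u)
          rw [M1.mres_smul] at h1
          exact (congrArg (M1.ores hle (r u) • ·) (M1.mres_mres M _ hle s).symm).trans
            (h1.trans (M1.mres_mres M _ hle m))
        have hinj := (hgen v.1 (hV v.2) (W v ⊓ W w) (inf_le_left.trans inf_le_right)).1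
        refine hinj ?_
        simp only [M1.mres_mres]
        exact (key v inf_le_left).trans (key w inf_le_right).symm
    refine ⟨a, M1.modules_eq_of_locally_eq M V W (fun v => inf_le_left) hcov _ _ fun v => ?_⟩
    refine (hres v a).trans (Eq.trans ?_ (hr v))
    exact congrArg (fun q : Γ(X, W v) => q • M1.mres M (inf_le_left.trans hV : W v ≤ G) s) (ha v)

/-- A section which restricts to a unit on `X'` generates near the image. -/
theorem exists_isGenerator_nhd_of_unit {X X' : Scheme.{u}} {M : X.Modules} (hM : PicF.IsInvertible M) (k : X' ⟶ X)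
    (φ : (Scheme.Modules.pullback k).obj M ≅ Coh.structureModule X') {W : X.Opens} (s : Γ(M, W))
    (hs : IsUnit (show Γ(X', k ⁻¹ᵁ W) from φ.hom.app _ (eta k M (le_refl (k ⁻¹ᵁ W)) s))) (z : X')
    (hz : k z ∈ W) : ∃ (D : X.Opens) (hD : D ≤ W), k z ∈ D ∧ M2.IsGenerator (M1.mres M hD s) := by
  obtain ⟨U, hU, ⟨i⟩⟩ := hM (k z)
  obtain ⟨e, he⟩ := M2.exists_generator i
  let D₀ := U ⊓ W
  obtain ⟨r, hr⟩ := (he D₀ inf_le_left).2 (M1.mres M inf_le_right s)
  let e₀ : Γ(M, D₀) := M1.mres M inf_le_left e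
  have hr' : r • e₀ = M1.mres M inf_le_right s := hr
  have hu : IsUnit (k.appLE D₀ (k ⁻¹ᵁ D₀) le_rfl r) := by
    have h1 := congrArg (fun m => φ.hom.app _ (eta k M (le_refl (k ⁻¹ᵁ D₀)) m)) hr'
    simp only [eta_smul, Scheme.Modules.Hom.app_smul] at h1
    have h2 : φ.hom.app _ (eta k M (le_refl (k ⁻¹ᵁ D₀)) (M1.mres M (inf_le_right : D₀ ≤ W) s)) =
        M1.mres (Coh.structureModule X') (k.preimage_mono inf_le_right) (φ.hom.app _ (eta k M (le_refl (k ⁻¹ᵁ W)) s)) :=
      (congrArg (φ.hom.app _) (eta_res M (le_refl (k ⁻¹ᵁ W)) (le_refl (k ⁻¹ᵁ D₀)) inf_le_right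
        (k.preimage_mono inf_le_right) s)).trans (M1.app_mres φ.hom _ _)
    rw [h2] at h1
    let R : Γ(X', k ⁻¹ᵁ W) →+* Γ(X', k ⁻¹ᵁ D₀) := (X'.presheaf.map (homOfLE (k.preimage_mono inf_le_right)).op).hom
    have h3 : k.appLE D₀ (k ⁻¹ᵁ D₀) le_rfl r *
        (show Γ(X', k ⁻¹ᵁ D₀) from φ.hom.app _ (eta k M (le_refl (k ⁻¹ᵁ D₀)) e₀)) =
        R (show Γ(X', k ⁻¹ᵁ W) from φ.hom.app _ (eta k M (le_refl (k ⁻¹ᵁ W)) s)) := h1
    exact isUnit_of_mul_isUnit_left (h3 ▸ hs.map R)
  have hzr : k z ∈ X.basicOpen r := by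
    have h4 : z ∈ X'.basicOpen (k.appLE D₀ (k ⁻¹ᵁ D₀) le_rfl r) := by
      rw [X'.basicOpen_of_isUnit hu]; exact ⟨hU, hz⟩
    rw [Scheme.basicOpen_appLE] at h4
    exact h4.2
  refine ⟨X.basicOpen r, (X.basicOpen_le r).trans inf_le_right, hzr, fun V hV => ?_⟩
  have hrV : IsUnit (M1.ores (hV.trans (X.basicOpen_le r)) r) := by
    refine X.toRingedSpace.isUnit_of_isUnit_germ V _ fun x hx => ?_
    have h5 := (X.mem_basicOpen r x (X.basicOpen_le r (hV hx))).1 (hV hx)
    convert h5 using 1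
    exact TopCat.Presheaf.germ_res_apply X.presheaf (homOfLE (hV.trans (X.basicOpen_le r))) x hx r
  obtain ⟨u, hu'⟩ := hrV
  have hb := he V ((hV.trans (X.basicOpen_le r)).trans inf_le_left)
  have e1 : (fun q : Γ(X, V) => q • M1.mres M hV (M1.mres M ((X.basicOpen_le r).trans inf_le_right) s)) =
      (fun q : Γ(X, V) => q • M1.mres M ((hV.trans (X.basicOpen_le r)).trans inf_le_left) e) ∘ (u.mulRight) := by
    funext q
    rw [M1.mres_mres, ← M1.mres_mres M (inf_le_right : D₀ ≤ W) (hV.trans (X.basicOpen_le r)) s, ← hr',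
      M1.mres_smul]
    change _ = (q * (u : Γ(X, V))) • _
    rw [hu', mul_smul, M1.mres_mres]
  rw [e1]
  exact hb.comp (Equiv.bijective _)

/-- If `H^1` vanishes then a trivialisation of the base change to a residue field lifts to a section. -/
theorem exists_section_unit {A : Type u} [CommRing A] {X : Scheme.{u}} (f₀ : X ⟶ Spec (CommRingCat.of A))
    [IsProper f₀] (hd : ∀ y, topologicalKrullDim ↥(f₀ ⁻¹' {y} : Set X) ≤ 1) (c : Cov X) {F : X.Modules}
    (hF : Coh.IsQCoh F) (hA : VanH f₀ c F A) {B : Type u} [Field B] [Algebra A B]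
    (hfrac : ∀ b : B, ∃ a d : A, algebraMap A B d ≠ 0 ∧ algebraMap A B a = algebraMap A B d * b)
    {X' : Scheme.{u}} {g : X' ⟶ X} {z : X' ⟶ Spec (CommRingCat.of B)}
    (hc : IsPullback g z f₀ (Spec.map (CommRingCat.ofHom (algebraMap A B))))
    (φ : (Scheme.Modules.pullback g).obj F ≅ Coh.structureModule X') :
    ∃ s : Γ(F, (⊤ : X.Opens)),
      IsUnit (show Γ(X', g ⁻¹ᵁ ⊤) from φ.hom.app _ (eta g F (le_refl (g ⁻¹ᵁ (⊤ : X.Opens))) s)) := by
  classical
  letI : X.Over (Spec (CommRingCat.of A)) := ⟨f₀⟩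
  letI : X'.Over (Spec (CommRingCat.of B)) := ⟨z⟩
  letI : X'.Over (Spec (CommRingCat.of A)) := ⟨z ≫ Spec.map (CommRingCat.ofHom (algebraMap A B))⟩
  have h : Sq (A := A) (B := B) g := by constructor <;> first | exact hc | rfl
  obtain ⟨t, ht⟩ := exists_combination f₀ hd c hF hA hc φ (show Γ(X', ⊤) from 1)
  choose a d hd0 had using hfrac
  let D := ∏ b ∈ t.support, d b
  let co : B → A := fun b => a b * ∏ b' ∈ t.support.erase b, d b'
  refine ⟨∑ b ∈ t.support, ρ A (⊤ : X.Opens) (co b) • t b, ?_⟩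
  have eid : ∀ r : B, ρ B (g ⁻¹ᵁ (⊤ : X.Opens)) r = glz z r := fun r =>
    ConcreteCategory.congr_hom (X'.presheaf.map_id (op ⊤)) _
  have key : φ.hom.app (⊤ : X'.Opens) (eta g F (le_refl (g ⁻¹ᵁ (⊤ : X.Opens))) (∑ b ∈ t.support, ρ A (⊤ : X.Opens) (co b) • t b)) =
      glz z (algebraMap A B D) • (show Γ(Coh.structureModule X', (⊤ : X'.Opens)) from (show Γ(X', ⊤) from 1)) := by
    rw [ht, Finsupp.sum, Finset.smul_sum, map_sum, map_sum]
    refine Finset.sum_congr rfl fun b hb => ?_
    rw [eta_smul, Scheme.Modules.Hom.app_smul, ρ_comap h, ρ_algebraMap h, smul_smul]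
    refine congrArg₂ (fun (r : Γ(X', ⊤)) m => r • m) ?_ rfl
    rw [eid, ← map_mul]
    congr 1
    rw [map_mul, had b, show D = d b * ∏ b' ∈ t.support.erase b, d b' from (Finset.mul_prod_erase _ _ hb).symm,
      map_mul]
    ring
  have hD : algebraMap A B D ≠ 0 := by
    rw [map_prod]
    exact Finset.prod_ne_zero_iff.2 fun b _ => hd0 b
  have hu : IsUnit (glz z (algebraMap A B D) * 1) := by
    rw [mul_one]; exact (IsUnit.mk0 _ hD).map _
  exact key ▸ hu

end Groth.Agent.FibH1_18
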